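import Cfsg.Agent.H93.Exist.Fi24Hom
import Mathlib.GroupTheory.FixedPointFree

/-!
The commutator subgroup of a group with the data of type M(24) is simple of the order of Fi24 prime.
-/

set_option autoImplicit false

namespace Cfsg.Agent.H3.Fischer.Fi24Simple

open Cfsg.Agent.H25.Fi23 hiding zWord
open Cfsg.Agent.H93 Cfsg.Agent.H93.Exist

variable {G : Type*} [Group G] [Finite G] {E : Set G} {l k : G} {φ : G23 →* G}
  (h : M24Counts E l k φ)

include h

theorem l_ne : l ≠ 1 := fun e => by simpa [e] using h.cls.1.1 l h.hl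

theorem conj_E {y : G} (hy : y ∈ E) : ∃ g : G, g * l * g⁻¹ = y :=
  isConj_iff.mp (h.input.eq_conjugatesOf ▸ hy : y ∈ conjugatesOf l)

/-- the centraliser of `l` has the index 306936 -/
theorem index_centralizer : (Subgroup.centralizer ({l} : Set G)).index = 306936 := by
  have hp : 0 < Nat.card ↥(Subgroup.centralizer ({l} : Set G)) := Nat.card_pos
  apply Nat.eq_of_mul_eq_mul_left hp
  rw [Subgroup.card_mul_index, ← Subgroup.card_top (G := G),
    ← conj_image_card (⊤ : Subgroup G) l, top_inf_eq, mul_comm]
  congr 2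
  have : (fun g => g * l * g⁻¹) '' ((⊤ : Subgroup G) : Set G) = E := by
    refine Set.Subset.antisymm ?_ fun y hy => ?_
    · rintro _ ⟨g, -, rfl⟩
      exact h.input.tt.conj_mem g l h.hl
    · obtain ⟨g, hg⟩ := conj_E h hy
      exact ⟨g, Subgroup.mem_top g, hg⟩
  rw [this, h.card_E]

theorem card_centralizer :
    Nat.card ↥(Subgroup.centralizer ({l} : Set G)) = 2 * 4089470473293004800 := by
  let f : Bool × G23 → ↥(Subgroup.centralizer ({l} : Set G)) := fun p =>
    ⟨φ p.2 * (if p.1 then l else 1), Subgroup.mem_centralizer_singleton_iff.mpr (by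
      cases p.1
      · simpa using (h.comm p.2).symm.eq
      · simpa using ((h.comm p.2).mul_right (Commute.refl l)).symm.eq)⟩
  have hf : Function.Bijective f := by
    constructor
    · rintro ⟨a, x⟩ ⟨b, y⟩ e
      have e' : φ x * (if a then l else 1) = φ y * (if b then l else 1) := congrArg Subtype.val e
      cases a <;> cases b <;> simp only [if_true, Bool.false_eq_true, if_false, mul_one] at e'
      · rw [h.inj e']
      · exact absurd (show φ (y⁻¹ * x) = l by rw [map_mul, map_inv, e']; group) (h.notmem _)
      · exact absurd (show φ (x⁻¹ * y) = l by rw [map_mul, map_inv, ← e']; group) (h.notmem _)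
      · rw [h.inj (mul_right_cancel e')]
    · rintro ⟨g, hg⟩
      obtain ⟨x, e | e⟩ := h.cl g (Subgroup.mem_centralizer_singleton_iff.mp hg).symm
      · exact ⟨(false, x), Subtype.ext (by simp [f, e])⟩
      · exact ⟨(true, x), Subtype.ext (by simp [f, e])⟩
  rw [← Nat.card_congr (Equiv.ofBijective f hf), Nat.card_prod, order_facts.2.1]
  simp

theorem card_group : Nat.card G = 2 * 1255205709190661721292800 := by
  rw [← Subgroup.card_mul_index (Subgroup.centralizer ({l} : Set G)), index_centralizer h,
    card_centralizer h]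

omit h in
theorem center23 {x : G23} (hx : ∀ y : G23, x * y = y * x) : x = 1 := by
  have : IsSimpleGroup G23 := isFi23.1
  rcases IsSimpleGroup.eq_bot_or_eq_top_of_normal (Subgroup.center G23) inferInstance with e | e
  · exact (Subgroup.mem_bot).mp (e ▸ Subgroup.mem_center_iff.mpr fun y => (hx y).symm)
  · exfalso
    letI : CommGroup G23 := { (inferInstance : Group G23) with
      mul_comm := fun a b => (Subgroup.mem_center_iff.mp
        (show a ∈ Subgroup.center G23 from e ▸ Subgroup.mem_top a) b).symm }
    have := order_facts.1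
    have hp := (IsSimpleGroup.prime_card (α := G23))
    rw [order_facts.2.1] at hp
    exact absurd (hp.eq_one_or_self_of_dvd 2 (by norm_num)) (by norm_num)

theorem center_bot : Subgroup.center G = ⊥ := by
  refine eq_bot_iff.mpr fun z hz => Subgroup.mem_bot.mpr ?_
  have hc : ∀ y, Commute z y := fun y => (Subgroup.mem_center_iff.mp hz y).symm
  obtain ⟨x, e | e⟩ := h.cl z (hc l).symm
  · have : x = 1 := center23 fun y => h.inj (by rw [map_mul, map_mul, ← e]; exact (hc (φ y)).eq)
    rw [e, this, map_one]
  · have hex : φ x = z * l := by rw [e, mul_assoc, h.input.l_sq, mul_one]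
    have : x = 1 := center23 fun y => h.inj (by
      rw [map_mul, map_mul, hex]
      exact ((hc (φ y)).mul_left (h.comm y)).eq)
    rw [this, map_one, one_mul] at e
    subst e
    exact absurd (hc k) h.hlk

/-- every element is a commutator element up to the factor `l` -/
theorem mem_commutator_or (g : G) : g ∈ commutator G ∨ g * l ∈ commutator G := by
  have hg : g ∈ Subgroup.closure E := h.cls.2.2 ▸ Subgroup.mem_top g
  have hmk : ∀ y ∈ E, (Abelianization.of y) = Abelianization.of l := by
    intro y hy
    obtain ⟨c, rfl⟩ := conj_E h hy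
    rw [map_mul, map_mul, map_inv, mul_inv_cancel_comm]
  have key : Abelianization.of g = 1 ∨ Abelianization.of g = Abelianization.of l := by
    have hl2 : Abelianization.of l * Abelianization.of l = 1 := by
      rw [← map_mul, h.input.l_sq, map_one]
    induction hg using Subgroup.closure_induction with
    | mem y hy => exact Or.inr (hmk y hy)
    | one => exact Or.inl (map_one _)
    | mul a b _ _ ha hb =>
      rcases ha with ha | ha <;> rcases hb with hb | hb <;> simp [ha, hb, hl2]
    | inv a _ ha =>
      rcases ha with ha | ha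
      · simp [ha]
      · exact Or.inr (by rw [map_inv, ha, inv_eq_of_mul_eq_one_left hl2])
  rcases key with e | e
  · left
    rw [← Abelianization.ker_of G]
    exact e
  · right
    rw [← Abelianization.ker_of G, MonoidHom.mem_ker, map_mul, e, ← map_mul, h.input.l_sq, map_one]

/-- a normal subgroup other than 1 contains the commutator subgroup -/
theorem commutator_le {N : Subgroup G} [N.Normal] (hN : N ≠ ⊥) : commutator G ≤ N := by
  set C := Subgroup.centralizer ({l} : Set G) with hC
  have hlC : ∀ x, φ x ∈ C := fun x => Subgroup.mem_centralizer_singleton_iff.mpr (h.comm x).symm.eq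
  have hlE : l ∈ N → commutator G ≤ N := by
    intro hl
    have : N = ⊤ := by
      rw [eq_top_iff, ← h.cls.2.2, Subgroup.closure_le]
      intro y hy
      obtain ⟨g, rfl⟩ := conj_E h hy
      exact Subgroup.Normal.conj_mem inferInstance l hl g
    rw [this]; exact le_top
  rcases h.input.maximal (C ⊔ N) le_sup_left with hM | hM
  · exfalso
    apply hN
    rw [eq_bot_iff, ← center_bot h]
    intro n hn
    have hall : ∀ m ∈ N, Commute m l := fun m hm =>
      Subgroup.mem_centralizer_singleton_iff.mp ((le_of_le_of_eq (le_sup_right (a := C)) hM) hm)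
    rw [Subgroup.mem_center_iff]
    intro g
    have hg : g ∈ Subgroup.closure E := h.cls.2.2 ▸ Subgroup.mem_top g
    have hle : Subgroup.closure E ≤ Subgroup.centralizer ({n} : Set G) := by
      rw [Subgroup.closure_le]
      intro y hy
      obtain ⟨c, rfl⟩ := conj_E h hy
      have hm := hall (c⁻¹ * n * c⁻¹⁻¹) (Subgroup.Normal.conj_mem inferInstance n hn c⁻¹)
      refine Subgroup.mem_centralizer_singleton_iff.mpr ?_
      calc c * l * c⁻¹ * n = c * (l * (c⁻¹ * n * c⁻¹⁻¹)) * c⁻¹ := by group
        _ = c * ((c⁻¹ * n * c⁻¹⁻¹) * l) * c⁻¹ := by rw [hm.eq]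
        _ = n * (c * l * c⁻¹) := by group
    exact Subgroup.mem_centralizer_singleton_iff.mp (hle hg)
  · have : IsSimpleGroup G23 := isFi23.1
    rcases IsSimpleGroup.eq_bot_or_eq_top_of_normal (N.comap φ) inferInstance with e | e
    · by_cases hl : l ∈ N
      · exact hlE hl
      exfalso
      -- `N` meets the centraliser of `l` trivially
      have hdis : ∀ n ∈ N, Commute l n → n = 1 := by
        intro n hn hc
        obtain ⟨x, rfl | rfl⟩ := h.cl n hc
        · have : x ∈ N.comap φ := hn
          rw [e, Subgroup.mem_bot] at this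
          rw [this, map_one]
        · exfalso
          have hx : x = 1 := center23 fun y => by
            have hy : φ y * (φ x * l) * (φ y)⁻¹ * (φ x * l)⁻¹ ∈ N :=
              mul_mem (Subgroup.Normal.conj_mem inferInstance _ hn _) (inv_mem hn)
            have e1 : φ y * (φ x * l) * (φ y)⁻¹ * (φ x * l)⁻¹ = φ (y * x * y⁻¹ * x⁻¹) := by
              simp only [map_mul, map_inv]
              calc φ y * (φ x * l) * (φ y)⁻¹ * (φ x * l)⁻¹
                  = φ y * φ x * (l * (φ y)⁻¹) * (l⁻¹ * (φ x)⁻¹) := by group
                _ = φ y * φ x * ((φ y)⁻¹ * l) * (l⁻¹ * (φ x)⁻¹) := by rw [((h.comm y).inv_right).eq]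
                _ = φ y * φ x * (φ y)⁻¹ * (φ x)⁻¹ := by group
            rw [e1, ← Subgroup.mem_comap, e, Subgroup.mem_bot, mul_inv_eq_one,
              mul_inv_eq_iff_eq_mul] at hy
            exact hy.symm
          rw [hx, map_one, one_mul] at hn
          exact hl hn
      -- so conjugation by `l` has no fixed point on `N`, whose order is odd
      let f : ↥N →* ↥N := (MulAut.conjNormal l : MulAut ↥N).toMonoidHom
      have hf : ∀ n : ↥N, (f n : G) = l * n * l⁻¹ := fun n => MulAut.conjNormal_apply l n
      have hfix : MonoidHom.FixedPointFree f := fun n hn => by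
        have := congrArg Subtype.val hn
        rw [hf, mul_inv_eq_iff_eq_mul] at this
        exact Subtype.ext (hdis n n.2 this)
      have hinv : Function.Involutive f := fun n => Subtype.ext (by
        rw [hf, hf, inv_eq_of_mul_eq_one_left h.input.l_sq]
        calc l * (l * (n : G) * l) * l = (l * l) * n * (l * l) := by group
          _ = n := by rw [h.input.l_sq, one_mul, mul_one])
      have hodd : Odd (Nat.card ↥N) := MonoidHom.FixedPointFree.odd_card_of_involutive hfix hinv
      have hcomp : Subgroup.IsComplement' C N := by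
        refine Subgroup.isComplement'_of_disjoint_and_mul_eq_univ ?_ ?_
        · rw [disjoint_iff, eq_bot_iff]
          rintro n ⟨h1, h2⟩
          exact Subgroup.mem_bot.mpr (hdis n h2 (Subgroup.mem_centralizer_singleton_iff.mp h1).symm)
        · rw [← Subgroup.mul_normal, hM, Subgroup.coe_top]
      have hcard := hcomp.card_mul
      have hi := Subgroup.card_mul_index C
      rw [← hcard] at hi
      have hNi : Nat.card ↥N = 306936 := by
        rw [← Nat.eq_of_mul_eq_mul_left (Nat.card_pos) hi, hC, index_centralizer h]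
      rw [hNi] at hodd
      exact absurd hodd (by decide)
    · -- the quotient is generated by the image of `l`
      have hφN : ∀ x, φ x ∈ N := fun x => Subgroup.mem_comap.mp (e ▸ Subgroup.mem_top x)
      have hq : ∀ q : G ⧸ N, q ∈ Subgroup.zpowers (QuotientGroup.mk l : G ⧸ N) := by
        intro q
        induction q using QuotientGroup.induction_on with
        | _ g =>
          have hg : g ∈ C ⊔ N := hM ▸ Subgroup.mem_top g
          obtain ⟨c, hc, n, hn, rfl⟩ := Subgroup.mem_sup_of_normal_right.mp hg
          rw [QuotientGroup.mk_mul_of_mem c hn]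
          obtain ⟨x, rfl | rfl⟩ := h.cl c (Subgroup.mem_centralizer_singleton_iff.mp hc).symm
          · rw [(QuotientGroup.eq_one_iff _).mpr (hφN x)]
            exact one_mem _
          · rw [QuotientGroup.mk_mul, (QuotientGroup.eq_one_iff _).mpr (hφN x), one_mul]
            exact Subgroup.mem_zpowers _
      rw [commutator_def, Subgroup.commutator_le]
      intro a _ b _
      rw [← QuotientGroup.eq_one_iff, commutatorElement_def]
      obtain ⟨i, hi⟩ := hq (QuotientGroup.mk a)
      obtain ⟨j, hj⟩ := hq (QuotientGroup.mk b)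
      simp only [QuotientGroup.mk_mul, QuotientGroup.mk_inv, ← hi, ← hj]
      group

/-- the commutator subgroup is simple of the order of Fi24 prime -/
theorem isFi24' (σ : G →* Multiplicative (ZMod 2)) (hσ : σ l = Multiplicative.ofAdd 1) :
    Cfsg.IsFi24' ↥(commutator G) := by
  have hnl : l ∉ commutator G := fun hl => by
    have h1 := (Abelianization.commutator_subset_ker σ) hl
    rw [MonoidHom.mem_ker, hσ] at h1
    exact absurd h1 (by decide)
  have hidx : (commutator G).index = 2 := Subgroup.index_eq_two_iff.mpr ⟨l, fun g => by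
    rcases mem_commutator_or h g with hg | hg
    · exact Or.inr ⟨hg, fun hgl => hnl ((Subgroup.mul_mem_cancel_left _ hg).mp hgl)⟩
    · exact Or.inl ⟨hg, fun hg' => hnl ((Subgroup.mul_mem_cancel_left _ hg').mp hg)⟩⟩
  have hcard : Nat.card ↥(commutator G) = 1255205709190661721292800 := by
    have hc := Subgroup.card_mul_index (commutator G)
    rw [hidx, card_group h, mul_comm] at hc
    omega
  have : Nontrivial ↥(commutator G) := Finite.one_lt_card_iff_nontrivial.mp (by rw [hcard]; norm_num)
  refine ⟨⟨fun N hN => ?_⟩, hcard⟩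
  by_contra hcon
  rw [not_or] at hcon
  set A := N.map (commutator G).subtype with hA
  have hAle : A ≤ commutator G := Subgroup.map_subtype_le N
  have hA0 : A ≠ ⊥ := fun e => hcon.1 ((Subgroup.map_eq_bot_iff_of_injective _
    (commutator G).subtype_injective).mp e)
  have hA1 : A ≠ commutator G := fun e => hcon.2 (Subgroup.map_injective
    (commutator G).subtype_injective (e.trans (by rw [← MonoidHom.range_eq_map, Subgroup.range_subtype])))
  have hconjA : ∀ g ∈ commutator G, ∀ a ∈ A, g * a * g⁻¹ ∈ A := by
    rintro g hg _ ⟨a, ha, rfl⟩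
    exact ⟨⟨g, hg⟩ * a * ⟨g, hg⟩⁻¹, hN.conj_mem a ha _, rfl⟩
  set B := A.map (MulAut.conj l).toMonoidHom with hB
  have hll : l⁻¹ = l := inv_eq_of_mul_eq_one_left h.input.l_sq
  have memB : ∀ x, x ∈ B ↔ l * x * l ∈ A := by
    intro x
    constructor
    · rintro ⟨a, ha, rfl⟩
      show l * (l * a * l⁻¹) * l ∈ A
      rwa [show l * (l * a * l⁻¹) * l = (l * l) * a * (l⁻¹ * l) by group, h.input.l_sq,
        inv_mul_cancel, one_mul, mul_one]
    · intro hx
      refine ⟨_, hx, ?_⟩
      show l * (l * x * l) * l⁻¹ = x
      rw [show l * (l * x * l) * l⁻¹ = (l * l) * x * (l * l⁻¹) by group, h.input.l_sq,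
        mul_inv_cancel, one_mul, mul_one]
  have hconjB : ∀ g ∈ commutator G, ∀ b ∈ B, g * b * g⁻¹ ∈ B := by
    intro g hg b hb
    rw [memB] at hb ⊢
    have := hconjA _ ((Subgroup.commutator_normal ⊤ ⊤).conj_mem g hg l) _ hb
    have e : l * (g * b * g⁻¹) * l = l * g * l⁻¹ * (l * b * l) * (l * g * l⁻¹)⁻¹ := by
      rw [hll]; simp only [mul_inv_rev, hll]
      calc l * (g * b * g⁻¹) * l = l * g * 1 * b * 1 * g⁻¹ * l := by group
        _ = l * g * (l * l) * b * (l * l) * g⁻¹ * l := by rw [h.input.l_sq]
        _ = l * g * l * (l * b * l) * (l * (g⁻¹ * l)) := by group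
    rwa [e]
  have hlA : ∀ x, l * x * l⁻¹ ∈ A ↔ x ∈ B := fun x => by rw [memB, hll]
  have hlB : ∀ x, l * x * l⁻¹ ∈ B ↔ x ∈ A := fun x => by
    rw [memB, hll, show l * (l * x * l) * l = (l * l) * x * (l * l) by group, h.input.l_sq, one_mul,
      mul_one]
  -- closed under `l` and the commutator subgroup: normal
  have normal_of : ∀ K : Subgroup G, (∀ g ∈ commutator G, ∀ x ∈ K, g * x * g⁻¹ ∈ K) →
      (∀ x ∈ K, l * x * l⁻¹ ∈ K) → K.Normal := fun K h1 h2 => ⟨fun x hx g => by
    rcases mem_commutator_or h g with hg | hg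
    · exact h1 g hg x hx
    · have e : g * x * g⁻¹ = g * l * (l * x * l⁻¹) * (g * l)⁻¹ := by
        rw [mul_inv_rev, hll]
        calc g * x * g⁻¹ = g * 1 * x * 1 * g⁻¹ := by group
          _ = g * (l * l) * x * (l * l) * g⁻¹ := by rw [h.input.l_sq]
          _ = g * l * (l * x * l) * (l * g⁻¹) := by group
      rw [e]
      exact h1 _ hg _ (h2 x hx)⟩
  have hBle : B ≤ commutator G := fun x hx => by
    have := (Subgroup.commutator_normal ⊤ ⊤).conj_mem _ (hAle ((memB x).mp hx)) l
    rwa [hll, show l * (l * x * l) * l = (l * l) * x * (l * l) by group, h.input.l_sq, one_mul,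
      mul_one] at this
  have hAB : A ⊓ B = ⊥ := by
    by_contra hne
    haveI := normal_of (A ⊓ B) (fun g hg x hx => ⟨hconjA g hg x hx.1, hconjB g hg x hx.2⟩)
      (fun x hx => ⟨(hlA x).mpr hx.2, (hlB x).mpr hx.1⟩)
    exact hA1 (le_antisymm hAle ((commutator_le h hne).trans inf_le_left))
  have hsup : A ⊔ B = commutator G := by
    refine le_antisymm (sup_le hAle hBle) ?_
    haveI := normal_of (A ⊔ B) (fun g hg x hx => by
        have hx' : x ∈ (A ⊔ B).comap (MulAut.conj g).toMonoidHom := by
          refine (sup_le ?_ ?_ : A ⊔ B ≤ _) hx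
          · exact fun a ha => Subgroup.mem_sup_left (hconjA g hg a ha)
          · exact fun b hb => Subgroup.mem_sup_right (hconjB g hg b hb)
        exact hx')
      (fun x hx => by
        have hx' : x ∈ (A ⊔ B).comap (MulAut.conj l).toMonoidHom := by
          refine (sup_le ?_ ?_ : A ⊔ B ≤ _) hx
          · exact fun a ha => Subgroup.mem_sup_right ((hlB a).mpr ha)
          · exact fun b hb => Subgroup.mem_sup_left ((hlA b).mpr hb)
        exact hx')
    exact commutator_le h (fun e => hA0 (eq_bot_iff.mpr (le_sup_left.trans e.le)))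
  set A' := A.subgroupOf (commutator G) with hA'
  set B' := B.subgroupOf (commutator G) with hB'
  haveI : B'.Normal := ⟨fun x hx g => hconjB g g.2 x hx⟩
  have hcomp : Subgroup.IsComplement' A' B' := by
    refine Subgroup.isComplement'_of_disjoint_and_mul_eq_univ ?_ ?_
    · rw [disjoint_iff, eq_bot_iff]
      intro x hx
      have : (x : G) ∈ A ⊓ B := ⟨hx.1, hx.2⟩
      rw [hAB, Subgroup.mem_bot] at this
      exact Subgroup.mem_bot.mpr (Subtype.ext this)
    · rw [← Subgroup.mul_normal, ← Subgroup.subgroupOf_sup hAle hBle, hsup, Subgroup.subgroupOf_self,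
        Subgroup.coe_top]
  have h2 := hcomp.card_mul
  rw [hcard, Nat.card_congr (Subgroup.subgroupOfEquivOfLe hAle).toEquiv,
    Nat.card_congr (Subgroup.subgroupOfEquivOfLe hBle).toEquiv, hB,
    Subgroup.card_map_of_injective (f := (MulAut.conj l).toMonoidHom) (MulEquiv.injective (MulAut.conj l))] at h2
  set n := Nat.card ↥A
  have h29 : 29 ∣ n := by
    have : 29 ∣ n * n := by rw [h2]; norm_num
    exact (Nat.Prime.dvd_mul (by norm_num)).mp this |>.elim id id
  obtain ⟨m, hm⟩ := h29
  have : 841 ∣ 1255205709190661721292800 := ⟨m * m, by rw [← h2, hm]; ring⟩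
  exact absurd (Nat.dvd_iff_mod_eq_zero.mp this) (by decide +kernel)

omit [Finite G] in
omit h in
/-- the presented group: S1698 follows from the data `h` -/
theorem isFi24'_presented [Finite Cfsg.Spor.Fi24] {E : Set Cfsg.Spor.Fi24} {k : Cfsg.Spor.Fi24}
    {φ : G23 →* Cfsg.Spor.Fi24} (h : M24Counts E (gen24 .l) k φ) : Cfsg.IsFi24' Cfsg.Spor.Fi24' := by
  obtain ⟨σ, hσ⟩ := parity
  exact isFi24' h σ (hσ .l)

end Cfsg.Agent.H3.Fischer.Fi24Simple
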